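import Cfsg.Agent.ChevTw.TwA1
import Cfsg.Agent.ChevGrp.FieldAut
import Cfsg.Agent.ChevTw.Symmetries
import Cfsg.Agent.Coxeter.Checks
import Cfsg.Agent.Chev.Rules
import Cfsg.Prelude.Def_LieTwisted

/-!
The twisted group ²E₆(q): twist, orbits, generation, diagonal subgroup (owner: helper33).
-/

set_option autoImplicit false

namespace Cfsg.Agent.ChevTw

open Cfsg.Lie Cfsg.Agent.ChevGrp

/-- The tables of ²E₆. -/
def twE6 : TwData where
  rho := symE6.roots
  nu := symE6.nodes
  words := [[1], [3], [2, 4], [0, 5]]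
  posL := [[46], [39], [42, 37], [56, 36]]
  long := [0, 1, 0, 2, 1, 0, 2, 1, 2, 3, 2, 1, 0, 2, 1, 2, 3, 2, 1, 0, 2, 1, 2, 3]

theorem twE6_ok : TwOK chevE6 twE6 where
  root_ok := by decide +kernel
  root_simple := by decide +kernel
  cover := by decide +kernel
  disj := by decide +kernel
  ne := by decide +kernel
  trans := by decide +kernel
  wneg := by decide +kernel
  wcomm := by decide +kernel
  winv := by decide +kernel
  posNodup := by decide +kernel
  posIff := by decide +kernel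
  longNeg := by decide +kernel
  longRed := by decide +kernel

theorem sgnE6 : (∀ r < chevE6.nroots, symE6.sgn (chevE6.neg r) = symE6.sgn r) ∧
    (∀ r ∈ [46, 39, 42, 37, 56, 36, 25, 32, 29, 34, 15, 35], symE6.sgn r = 1) := by
  decide +kernel

/-- The permutations of the roots by the orbit words. -/
def wTableTwE6 : ℕ := 0x47464543443735363334322c2d2b2a0f4240413e3f3d30312f2e3b3c3a39282927252623242122201e1f0e0d0b0c191816170a0809060705381d1c1a1b151314111210030402010047464142404445433f3d3e3c3a3b3839363735312f303432332e2927281d2d2b2c2422262125231b1c1a2a1f201e191415131718161210110e0f0c0d0b090a0804020307050601004745464443423f3e41403d3c3b393a3837343336353231302e2f2d2c2a2b262520292824231f1e2722211c1d1b1a181917161512111413100f0d0e0c0b0a0706090805040301020046474544434241403c3b3a3f3e3d39383736352d2c2b292827193433322a31302f2625242322211817161d1514132e201f1e1c1b1a1211100f0e0a09080d0c0b0706050403020001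

/-- The masks of the tower certificate. -/
def wMasksTwE6 : List ℕ := [0x400000000000, 0x808000000000, 0x2d1d2000000000, 0xffffd2225000000000]

/-- Reading the packed table. -/
def twTab (R T J r : ℕ) : ℕ := (T >>> (8 * (J * R + r))) % 256

theorem twE6_tab : ∀ J : Fin twE6.nOrb, ∀ r < chevE6.nroots,
    twTab 72 wTableTwE6 J r = act chevE6 (twE6.wJ chevE6 J) r := by decide +kernel

theorem twE6_action : Cfsg.Agent.CoxTower.checkAction Cfsg.Agent.CoxTower.Tables.matF4
    (twTab 72 wTableTwE6) chevE6.nroots 4 = true := by decide +kernel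

theorem twE6_faithful : Cfsg.Agent.CoxTower.checkFaithful (twTab 72 wTableTwE6) chevE6.nroots
    (fun k r => (wMasksTwE6.getD k 0).testBit r) Cfsg.Agent.CoxTower.Tables.towerF4 = true := by
  decide +kernel

theorem rulesE6 (K : Type*) [Field K] : Rules chevE6 K :=
  Cfsg.Agent.Chev.rules_of_mem K (by simp)

theorem word_mem_genSubgroup {D : ChevalleyDatum} {K : Type*} [Field K] (hS : Rules D K)
    {W : Set (List (ℕ × K))} {w : List (ℕ × K)} (hw : w ∈ W) :
    (w.map fun p => xGL D K p.1 p.2).prod ∈ D.genSubgroup K W :=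
  Subgroup.subset_closure ⟨w, hw, val_word hS w⟩

theorem eq_word_of_mat {D : ChevalleyDatum} {K : Type*} [Field K] (hS : Rules D K) {g : GL D.Idx K}
    {w : List (ℕ × K)} (h : (g : Matrix D.Idx D.Idx K) = D.wordMat K w) :
    g = (w.map fun p => xGL D K p.1 p.2).prod :=
  Units.ext (h.trans (val_word hS w).symm)

theorem f_inv_of_hom {D : ChevalleyDatum} {K : Type*} [Field K] (φ : K →+* K) (sgn : ℕ → ℤ)
    (hn : ∀ r < D.nroots, sgn (D.neg r) = sgn r) (h1 : ∀ r, sgn r * sgn r = 1) :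
    ∀ r < D.nroots, ∀ t : K, t ≠ 0 →
      (sgn (D.neg r) : K) * φ (-t⁻¹) = -((sgn r : K) * φ t)⁻¹ := by
  intro r hr t _
  have e : (sgn r : K)⁻¹ = sgn r :=
    inv_eq_of_mul_eq_one_right (by rw [← Int.cast_mul, h1, Int.cast_one])
  rw [hn r hr, map_neg, map_inv₀, mul_inv_rev, e]
  ring

section

variable {K : Type*} [Field K] [Fintype K] {q : ℕ} (hq : IsPrimePow q) (hK : Fintype.card K = q ^ 2)

/-- `t ↦ t^q`. -/
noncomputable def frobE6 : K →+* K := (exists_powHom hq two_ne_zero hK).choose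

theorem frobE6_apply (t : K) : frobE6 hq hK t = t ^ q := (exists_powHom hq two_ne_zero hK).choose_spec t

/-- The defining endomorphism of ²E₆. -/
noncomputable def twistE6 : Twist (glSys (rulesE6 K)) :=
  twistOfHom (rulesE6 K)
    ((symE6_ok.glEquiv K).toMonoidHom.comp (Matrix.GeneralLinearGroup.map (n := chevE6.Idx) (frobE6 hq hK)))
    twE6_ok (fun r t => (symE6.sgn r : K) * frobE6 hq hK t)
    (fun r hr t => Units.ext (by
      rw [val_xGL (rulesE6 K)]
      refine symE6_ok.glEquiv_x hr ?_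
      rw [← x_map chevE6 (frobE6 hq hK), ← val_xGL (rulesE6 K)]
      rfl))
    (fun r _ t ht' => mul_ne_zero
      (left_ne_zero_of_mul_eq_one (b := (symE6.sgn r : K))
        (by rw [← Int.cast_mul, symE6.sgn_mul_self, Int.cast_one]))
      ((map_ne_zero _).2 ht'))
    (f_inv_of_hom _ symE6.sgn sgnE6.1 symE6.sgn_mul_self)

theorem twistE6_f {r : ℕ} (hr : r ∈ [46, 39, 42, 37, 56, 36, 25, 32, 29, 34, 15, 35]) (t : K) :
    (twistE6 hq hK).f r t = t ^ q := by
  show (symE6.sgn r : K) * frobE6 hq hK t = t ^ q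
  rw [sgnE6.2 r hr, frobE6_apply, Int.cast_one, one_mul]

/-- The orbits of ²E₆. -/
noncomputable abbrev orbE6 : Orbits (twistE6 hq hK) (Fin twE6.nOrb) :=
  twE6_ok.orbits (twistE6 hq hK) (fun _ => rfl) rfl

theorem pow_pow_q (hK : Fintype.card K = q ^ 2) (t : K) : (t ^ q) ^ q = t := by
  rw [← pow_mul, ← pow_two, ← hK, FiniteField.pow_card]

theorem commE6 : ∀ ab ∈ [(42, 37), (56, 36), (29, 34), (15, 35), (42, 34), (56, 35), (29, 37), (15, 36)],
    ab.2 ≠ ab.1 ∧ ab.2 ≠ chevE6.neg ab.1 ∧ chevE6.commTerms ab.1 ab.2 = [] ∧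
      ab.1 < chevE6.nroots ∧ ab.2 < chevE6.nroots := by decide +kernel

theorem x_commuteE6 {a b : ℕ}
    (h : (a, b) ∈ [(42, 37), (56, 36), (29, 34), (15, 35), (42, 34), (56, 35), (29, 37), (15, 36)]) (t u : K) :
    Commute (xGL chevE6 K a t) (xGL chevE6 K b u) := by
  obtain ⟨h1, h2, h3, h4, h5⟩ := commE6 _ h
  exact x_commute (glSys (rulesE6 K)) h4 h5 h1 h2 h3 t u

/-- The fixed elements of the orbit subgroups. -/
theorem fixE6 (J : Fin twE6.nOrb) (neg : Bool) (g : GL chevE6.Idx K) :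
    g ∈ fixUS (twistE6 hq hK) (bif neg then (orbE6 hq hK).negJ J else (orbE6 hq hK).posJ J) ↔
      ∃ t : K, (J.val < 2 → t ^ q = t) ∧
        g = (([[(46, t)], [(39, t)], [(42, t), (37, t ^ q)], [(56, t), (36, t ^ q)],
          [(25, t)], [(32, t)], [(29, t), (34, t ^ q)], [(15, t), (35, t ^ q)]].getD
          (bif neg then J.val + 4 else J.val) []).map fun p => xGL chevE6 K p.1 p.2).prod := by
  obtain ⟨len, hR⟩ := (rulesE6 K).root
  have hp := (orbE6 hq hK).posJ_closed hR
  have hn := (orbE6 hq hK).negJ_closed hR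
  have ep := twE6_ok.enum_posJ (T := twistE6 hq hK) (fun _ => rfl) rfl
  have en := twE6_ok.enum_negJ (T := twistE6 hq hK) (fun _ => rfl) rfl hR
  have one : ∀ {A : Set ℕ} {φ : (Fin chevE6.rank → ℤ) →+ ℤ} (a : ℕ), UClosed chevE6 len φ A → Enum A [a] →
      a ∈ [46, 39, 42, 37, 56, 36, 25, 32, 29, 34, 15, 35] → twE6.root a = a →
      (g ∈ fixUS (twistE6 hq hK) A ↔ ∃ t : K, t ^ q = t ∧ g = ([(a, t)].map fun p => xGL chevE6 K p.1 p.2).prod) := by
    intro A φ a hA hL hm ha
    rw [fix_one (twistE6 hq hK) hR hA hL ha]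
    simp only [twistE6_f hq hK hm, List.map_cons, List.map_nil, List.prod_cons, List.prod_nil, mul_one]
    rfl
  have two : ∀ {A : Set ℕ} {φ : (Fin chevE6.rank → ℤ) →+ ℤ} (a b : ℕ), UClosed chevE6 len φ A →
      Enum A [a, b] → a ∈ [46, 39, 42, 37, 56, 36, 25, 32, 29, 34, 15, 35] →
      b ∈ [46, 39, 42, 37, 56, 36, 25, 32, 29, 34, 15, 35] → twE6.root a = b → twE6.root b = a →
      (a, b) ∈ [(42, 37), (56, 36), (29, 34), (15, 35), (42, 34), (56, 35), (29, 37), (15, 36)] →
      (g ∈ fixUS (twistE6 hq hK) A ↔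
        ∃ t : K, g = ([(a, t), (b, t ^ q)].map fun p => xGL chevE6 K p.1 p.2).prod) := by
    intro A φ a b hA hL hma hmb ha hb hab
    rw [fix_two (twistE6 hq hK) hR hA hL ha hb (fun t u => x_commuteE6 hab t u)]
    simp only [twistE6_f hq hK hma, twistE6_f hq hK hmb, pow_pow_q hK, true_and, List.map_cons,
      List.map_nil, List.prod_cons, List.prod_nil, mul_one]
    rfl
  fin_cases J <;> cases neg
  · simpa using one 46 (hp ⟨0, by decide⟩) (ep ⟨0, by decide⟩) (by simp) (by decide +kernel)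
  · simpa using one 25 (hn ⟨0, by decide⟩) (en ⟨0, by decide⟩) (by simp) (by decide +kernel)
  · simpa using one 39 (hp ⟨1, by decide⟩) (ep ⟨1, by decide⟩) (by simp) (by decide +kernel)
  · simpa using one 32 (hn ⟨1, by decide⟩) (en ⟨1, by decide⟩) (by simp) (by decide +kernel)
  · simpa using two 42 37 (hp ⟨2, by decide⟩) (ep ⟨2, by decide⟩) (by simp) (by simp) (by decide +kernel) (by decide +kernel) (by simp)
  · simpa using two 29 34 (hn ⟨2, by decide⟩) (en ⟨2, by decide⟩) (by simp) (by simp) (by decide +kernel) (by decide +kernel) (by simp)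
  · simpa using two 56 36 (hp ⟨3, by decide⟩) (ep ⟨3, by decide⟩) (by simp) (by simp) (by decide +kernel) (by decide +kernel) (by simp)
  · simpa using two 15 35 (hn ⟨3, by decide⟩) (en ⟨3, by decide⟩) (by simp) (by simp) (by decide +kernel) (by decide +kernel) (by simp)

theorem genE6 : twistedE6 K q = Subgroup.closure
    {g | ∃ J, g ∈ fixUS (twistE6 hq hK) ((orbE6 hq hK).posJ J) ∨
      g ∈ fixUS (twistE6 hq hK) ((orbE6 hq hK).negJ J)} := by
  refine le_antisymm ?_ ?_
  · rw [twistedE6, ChevalleyDatum.genSubgroup, Subgroup.closure_le]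
    rintro g ⟨w, hw, hg⟩
    obtain rfl := eq_word_of_mat (rulesE6 K) hg
    clear hg
    apply Subgroup.subset_closure
    have key : ∀ (J : Fin twE6.nOrb) (neg : Bool) (t : K), (J.val < 2 → t ^ q = t) →
        w = ([[(46, t)], [(39, t)], [(42, t), (37, t ^ q)], [(56, t), (36, t ^ q)],
          [(25, t)], [(32, t)], [(29, t), (34, t ^ q)], [(15, t), (35, t ^ q)]].getD
          (bif neg then J.val + 4 else J.val) []) →
        (w.map fun p => xGL chevE6 K p.1 p.2).prod ∈ {g | ∃ J, g ∈ fixUS (twistE6 hq hK) ((orbE6 hq hK).posJ J) ∨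
          g ∈ fixUS (twistE6 hq hK) ((orbE6 hq hK).negJ J)} := by
      intro J neg t ht' e
      have := (fixE6 hq hK J neg _).2 ⟨t, ht', by rw [← e]⟩
      cases neg
      · exact ⟨J, Or.inl this⟩
      · exact ⟨J, Or.inr this⟩
    rcases hw with ⟨t, ht', r, hr, rfl⟩ | ⟨t, rs, hrs, rfl⟩
    · simp only [e6p2, e6m2, e6p4, e6m4, List.mem_cons, List.not_mem_nil, or_false] at hr
      rcases hr with rfl | rfl | rfl | rfl
      · exact key ⟨0, by decide⟩ false t (fun _ => ht') rfl
      · exact key ⟨0, by decide⟩ true t (fun _ => ht') rfl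
      · exact key ⟨1, by decide⟩ false t (fun _ => ht') rfl
      · exact key ⟨1, by decide⟩ true t (fun _ => ht') rfl
    · simp only [e6p1, e6p6, e6m1, e6m6, e6p3, e6p5, e6m3, e6m5, List.mem_cons, List.not_mem_nil,
        or_false] at hrs
      rcases hrs with rfl | rfl | rfl | rfl
      · exact key ⟨3, by decide⟩ false t (fun h => absurd h (by decide)) rfl
      · exact key ⟨3, by decide⟩ true t (fun h => absurd h (by decide)) rfl
      · exact key ⟨2, by decide⟩ false t (fun h => absurd h (by decide)) rfl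
      · exact key ⟨2, by decide⟩ true t (fun h => absurd h (by decide)) rfl
  · rw [Subgroup.closure_le]
    rintro g ⟨J, hg⟩
    obtain ⟨neg, hg⟩ : ∃ neg, g ∈ fixUS (twistE6 hq hK)
        (bif neg then (orbE6 hq hK).negJ J else (orbE6 hq hK).posJ J) :=
      hg.elim (fun h => ⟨false, h⟩) (fun h => ⟨true, h⟩)
    obtain ⟨t, ht', rfl⟩ := (fixE6 hq hK J neg g).1 hg
    refine word_mem_genSubgroup (rulesE6 K) ?_
    fin_cases J <;> cases neg <;>
      first
        | exact Or.inl ⟨t, ht' (by decide), _, by simp [e6p2, e6m2, e6p4, e6m4], rfl⟩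
        | exact Or.inr ⟨t, (42, 37), by simp [e6p3, e6p5], rfl⟩
        | exact Or.inr ⟨t, (29, 34), by simp [e6m3, e6m5], rfl⟩
        | exact Or.inr ⟨t, (56, 36), by simp [e6p1, e6p6], rfl⟩
        | exact Or.inr ⟨t, (15, 35), by simp [e6m1, e6m6], rfl⟩

theorem card_fixE6 (J : Fin twE6.nOrb) :
    Nat.card ↥(fixUS (twistE6 hq hK) ((orbE6 hq hK).posJ J)) = if J.val < 2 then q else q ^ 2 := by
  obtain ⟨len, hR⟩ := (rulesE6 K).root
  have hq1 : 1 < q := hq.one_lt
  set W : K → GL chevE6.Idx K := fun t => (([[(46, t)], [(39, t)], [(42, t), (37, t ^ q)],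
    [(56, t), (36, t ^ q)]].getD J.val []).map fun p => xGL chevE6 K p.1 p.2).prod with hW
  have hiff : ∀ g, g ∈ fixUS (twistE6 hq hK) ((orbE6 hq hK).posJ J) ↔
      ∃ t : K, (J.val < 2 → t ^ q = t) ∧ g = W t := fun g => by
    have := fixE6 hq hK J false g
    fin_cases J <;> simpa [hW] using this
  have hinj : Function.Injective W := by
    intro t t' e
    have hP : ∀ s : K, W s = (glSys (rulesE6 K)).P (twE6.posList J)
        (fun r => if r = (twE6.posList J).head! then s else s ^ q) := fun s => by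
      fin_cases J <;> simp [hW, Sys.P, TwData.posList, twE6] <;> rfl
    rw [hP, hP] at e
    have hmem : (twE6.posList J).head! ∈ (orbE6 hq hK).posJ J := by
      refine ((twE6_ok.enum_posJ (T := twistE6 hq hK) (fun _ => rfl) rfl J).2 _).1 ?_
      fin_cases J <;> simp [TwData.posList, twE6]
    simpa using (glSys (rulesE6 K)).coef_unique hR ((orbE6 hq hK).posJ_closed hR J)
      (twE6_ok.enum_posJ (T := twistE6 hq hK) (fun _ => rfl) rfl J) (congrArg _ e) _ hmem
  split_ifs with hJ
  · refine Eq.trans ?_ (card_fixed (K := K) hq1 hK)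
    refine (Nat.card_eq_of_bijective (fun t : {t : K // t ^ q = t} =>
      (⟨W t.1, (hiff _).2 ⟨t.1, fun _ => t.2, rfl⟩⟩ : ↥(fixUS (twistE6 hq hK) ((orbE6 hq hK).posJ J))))
      ⟨fun a b e => Subtype.ext (hinj (congrArg Subtype.val e)), ?_⟩).symm
    rintro ⟨g, hg⟩
    obtain ⟨t, ht', rfl⟩ := (hiff g).1 hg
    exact ⟨⟨t, ht' hJ⟩, rfl⟩
  · refine Eq.trans ?_ ((Nat.card_eq_fintype_card (α := K)).trans hK)
    refine (Nat.card_eq_of_bijective (fun t : K =>
      (⟨W t, (hiff _).2 ⟨t, fun h => absurd h hJ, rfl⟩⟩ : ↥(fixUS (twistE6 hq hK) ((orbE6 hq hK).posJ J))))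
      ⟨fun a b e => hinj (congrArg Subtype.val e), ?_⟩).symm
    rintro ⟨g, hg⟩
    obtain ⟨t, -, rfl⟩ := (hiff g).1 hg
    exact ⟨t, rfl⟩

/-- ²E₆ as a group generated by fixed orbit parts. -/
noncomputable def grpE6 : TwGroup (orbE6 hq hK) where
  Tw := twistedE6 K q
  gen := genE6 hq hK
  exNeg J := by
    obtain ⟨len, hR⟩ := (rulesE6 K).root
    have hclosed := (orbE6 hq hK).negJ_closed hR J
    have en := twE6_ok.enum_negJ (T := twistE6 hq hK) (fun _ => rfl) rfl hR J
    refine ⟨_, (fixE6 hq hK J true _).2 ⟨1, fun _ => one_pow q, rfl⟩, fun e => ?_⟩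
    set L := (twE6.posList J).map chevE6.neg with hL
    have e1 : (glSys (rulesE6 K)).P L (fun _ => (1 : K)) = (glSys (rulesE6 K)).P L (fun _ => (0 : K)) := by
      rw [(glSys (rulesE6 K)).P_zero (fun r hr => hclosed.lt r ((en.2 r).1 hr)) fun _ _ => rfl, ← e, one_pow]
      fin_cases J <;> simp [hL, Sys.P, TwData.posList, twE6] <;> rfl
    obtain ⟨r, hr⟩ : ∃ r, r ∈ L := List.exists_mem_of_ne_nil _ (by
      fin_cases J <;> simp [hL, TwData.posList, twE6])
    exact one_ne_zero ((glSys (rulesE6 K)).coef_unique hR hclosed en (congrArg _ e1) r ((en.2 r).1 hr))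
  rich J i hi := by
    obtain ⟨len, hR⟩ := (rulesE6 K).root
    have ep := twE6_ok.enum_posJ (T := twistE6 hq hK) (fun _ => rfl) rfl J
    refine ⟨twE6.posList J, fun _ => 1, ep, one_ne_zero, ?_⟩
    have h := ((fixE6 hq hK J false _).2 ⟨1, fun _ => one_pow q, rfl⟩).2
    convert h using 2 <;> fin_cases J <;> simp [Sys.P, TwData.posList, twE6] <;> rfl

end

end Cfsg.Agent.ChevTw
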